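import Cfsg.Agent.H621.SymDeg.Count
import Cfsg.Agent.H621.SymDeg.Chars
import Cfsg.Agent.S2119
import Cfsg.Agent.LFourA.AltPsiAut
import Cfsg.Agent.Characters.Ito
import Cfsg.Agent.Characters.Values
import Cfsg.Agent.Blocks.Basic
import Cfsg.Agent.Lib.FastPerm
import Cfsg.Agent.Prune
set_option linter.all false
prune_inst 0x7f00000000000000000000000000000000000000000000000000000000000000000000000000000000000000000000000000000000000000000000000000000000000000000000000000000000000000003ffffffffffffffffffff7ffffffbeffbde7ffffff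
open scoped Cfsg.Agent.FastGrp

/-!
# A group with derived subgroup `A_n` and the degree multiset of `S_n` is `S_n` (S4905, task 72)
-/

set_option autoImplicit false

namespace Cfsg.Agent.H621.SymDeg

open Cfsg Cfsg.Agent.Characters.Core Cfsg.Agent.CharDeep Cfsg.Agent.LFourA.AltPsiAut
open Equiv Equiv.Perm
open scoped ComplexConjugate commutatorElement

universe u v

theorem card_eq_of {G : Type u} [Group G] [Finite G] {K : Type v} [Group K] [Finite K]
    (f : IrrCharacter G ≃ IrrCharacter K)
    (hf : ∀ χ : IrrCharacter G, charDegree ((f χ) : K → ℂ) = charDegree (χ : G → ℂ)) :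
    Nat.card G = Nat.card K := by
  classical
  have := finite_irr (G := G)
  have := finite_irr (G := K)
  have := Fintype.ofFinite (IrrCharacter G)
  have := Fintype.ofFinite (IrrCharacter K)
  have h1 := PowerDegrees.sum_sq (G := G)
  have h2 := PowerDegrees.sum_sq (G := K)
  have h3 : ∑ χ : IrrCharacter K, (χ : K → ℂ) 1 ^ 2 = ∑ χ : IrrCharacter G, (χ : G → ℂ) 1 ^ 2 := by
    rw [← Equiv.sum_comp f]
    refine Finset.sum_congr rfl fun χ _ => ?_
    rw [Blocks.Basic.irr_one_eq_charDegree (f χ).2, Blocks.Basic.irr_one_eq_charDegree χ.2, hf]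
  rw [h1, h2] at h3
  exact_mod_cast h3.symm

theorem cp_eq_of {G : Type u} [Group G] [Finite G] {K : Type v} [Group K] [Finite K]
    (f : IrrCharacter G ≃ IrrCharacter K)
    (hf : ∀ χ : IrrCharacter G, charDegree ((f χ) : K → ℂ) = charDegree (χ : G → ℂ)) :
    Nat.card (CP G) = Nat.card (CP K) := by
  have h1 := card_comm_eq_card_conjClasses_mul_card G
  have h2 := card_comm_eq_card_conjClasses_mul_card K
  rw [← card_irr] at h1 h2
  rw [Nat.card_congr f, card_eq_of f hf] at h1
  exact h1.trans h2.symm

theorem exists_deg {n : ℕ} (hn : 2 ≤ n) {G : Type u} [Group G] [Finite G]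
    (f : IrrCharacter G ≃ IrrCharacter (Equiv.Perm (Fin n)))
    (hf : ∀ χ : IrrCharacter G, charDegree ((f χ) : Equiv.Perm (Fin n) → ℂ) = charDegree (χ : G → ℂ)) :
    ∃ χ : G → ℂ, IsIrrCharacter G χ ∧ χ 1 = ((n - 1 : ℕ) : ℂ) := by
  have h2 : MulAction.IsMultiplyPretransitive (Equiv.Perm (Fin n)) (Fin n) 2 :=
    Equiv.Perm.isMultiplyPretransitive (Fin n) 2
  have h3 := (Cfsg.Agent.S0157.result (G := Equiv.Perm (Fin n)) (Fin n)
    (by rw [Nat.card_eq_fintype_card, Fintype.card_fin]; omega)).2 h2
  obtain ⟨χ, hχ⟩ := f.surjective ⟨_, h3⟩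
  refine ⟨χ, χ.2, ?_⟩
  have h4 := hf χ
  rw [Blocks.Basic.irr_one_eq_charDegree χ.2, ← h4, ← Blocks.Basic.irr_one_eq_charDegree (f χ).2, hχ]
  have h5 : Nat.card (MulAction.fixedBy (Fin n) (1 : Equiv.Perm (Fin n))) = n := by
    rw [MulAction.fixedBy_one_eq_univ, Nat.card_coe_set_eq, Set.ncard_univ,
      Nat.card_eq_fintype_card, Fintype.card_fin]
  simp only [h5]
  rw [Nat.cast_sub (by omega)]
  norm_num

set_option maxRecDepth 100000 in
theorem nine_three : ∀ σ : Perm (Fin 6), σ ^ 9 = 1 → σ ^ 3 = 1 := by (set_option synthInstance.maxSize 9000 in open scoped Cfsg.Agent.Lib.FastPerm in decide +kernel)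

/-- a degree five character of `A₆` separates the two classes of elements of order three -/
theorem six_char {χ : A6 → ℂ} (hχ : IsCharacter A6 χ) (h1 : χ 1 = 5) (hker : ∀ a : A6, a ≠ 1 → χ a ≠ 5)
    {t : ℂ} (ht : ∀ x : A6, orderOf x = 3 → χ x = t) : False := by
  classical
  have h3 : Fact (Nat.Prime 3) := ⟨Nat.prime_three⟩
  have hcard : Nat.card A6 = 360 := by
    rw [nat_card_alternatingGroup, Nat.card_eq_fintype_card, Fintype.card_fin]
    rfl
  obtain ⟨P, hP⟩ := Sylow.exists_subgroup_card_pow_prime 3 (n := 2) (G := A6) (by rw [hcard]; decide)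
  have := Fintype.ofFinite P
  have hPc : IsCharacter P (fun x : P => χ x) := isCharacter_comp P.subtype hχ
  obtain ⟨n, hn⟩ := classInner_isNat hPc (isCharacter_one (G := P))
  rw [classInner_def, hP] at hn
  simp only [Pi.one_apply, map_one, mul_one] at hn
  have hP3 : ∀ x : P, x ≠ 1 → χ x = t := by
    intro x hx
    apply ht
    have h4 : (x : A6) ^ 9 = 1 := by
      have h5 : x ^ 9 = 1 := by
        have := pow_card_eq_one' (x := x)
        rwa [hP] at this
      have := congrArg Subtype.val h5
      simpa using this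
    have h5 : (x : A6) ^ 3 = 1 := by
      apply Subtype.ext
      have := nine_three ((x : A6) : Perm (Fin 6)) (by
        have := congrArg Subtype.val h4
        simpa using this)
      simpa using this
    exact orderOf_eq_prime h5 (fun h => hx (Subtype.ext h))
  have hsum : ∑ x : P, χ x = 5 + 8 * t := by
    rw [← Finset.add_sum_erase _ _ (Finset.mem_univ (1 : P))]
    rw [Finset.sum_congr rfl (g := fun _ => t) (fun x hx => hP3 x (Finset.ne_of_mem_erase hx))]
    rw [Finset.sum_const, Finset.card_erase_of_mem (Finset.mem_univ _), Finset.card_univ,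
      ← Nat.card_eq_fintype_card, hP, Subgroup.coe_one, h1]
    norm_num
  rw [hsum] at hn
  have h9 : 5 + 8 * t = 9 * n := by
    rw [← hn]; push_cast; ring
  -- integrality
  have hu3 : orderOf u3 = 3 := by
    rw [← Subgroup.orderOf_coe]; exact u3_three.orderOf
  have htu : χ u3 = t := ht u3 hu3
  have hint : IsIntegral ℤ t := by
    rw [← htu]
    obtain ⟨m, ρ, rfl⟩ := hχ
    exact Characters.Values.character_isIntegral ρ u3
  have ht' : t + 5 = ((9 * n + 35 : ℕ) : ℂ) / (8 : ℕ) := by
    push_cast
    rw [← h9]; ring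
  have hdvd : 8 ∣ 9 * n + 35 := by
    apply Characters.DegreeBounds.nat_dvd_of_isIntegral_div (by norm_num)
    rw [← ht']
    exact hint.add (by exact_mod_cast isIntegral_algebraMap (R := ℤ) (A := ℂ) (x := 5))
  have hle : ‖t‖ ≤ 5 := by
    rw [← htu]
    obtain ⟨m, ρ, rfl⟩ := hχ
    have h4 := Characters.Values.norm_character_le ρ u3
    rw [Representation.char_one] at h1
    have h5 : (Module.finrank ℂ (Fin m → ℂ) : ℝ) = 5 := by exact_mod_cast h1
    rwa [h5] at h4
  have hn5 : n ≤ 5 := by
    have h4 : ‖(9 * n : ℂ)‖ ≤ 45 := by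
      rw [← h9]
      calc ‖5 + 8 * t‖ ≤ ‖(5 : ℂ)‖ + ‖8 * t‖ := norm_add_le _ _
        _ = 5 + 8 * ‖t‖ := by rw [norm_mul]; norm_num
        _ ≤ 45 := by linarith
    rw [norm_mul, Complex.norm_natCast] at h4
    have h5 : (9 : ℝ) * n ≤ 45 := by
      convert h4 using 2
      norm_num
    have h6 : (n : ℝ) ≤ 5 := by linarith
    exact_mod_cast h6
  have hn : n = 5 := by omega
  have ht5 : t = 5 := by
    rw [hn] at h9
    have : 8 * t = 40 := by
      have h4 : 8 * t = 9 * ((5 : ℕ) : ℂ) - 5 := by rw [← h9]; ring
      rw [h4]; norm_num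
    calc t = (8 * t) / 8 := by ring
      _ = 5 := by rw [this]; norm_num
  apply hker u3
  · intro h
    rw [h, orderOf_one] at hu3
    norm_num at hu3
  · rw [htu, ht5]

/-- elements acting trivially in a character of degree five -/
theorem ker_case {G : Type u} [Group G] [Finite G] (H : Subgroup G) [H.Normal] (e : H ≃* A6) (hi : H.index = 2)
    {χ : G → ℂ} (hχ : IsIrrCharacter G χ) (h1 : χ 1 = 5) (a : A6) (ha : a ≠ 1) : χ (e.symm a) ≠ 5 := by
  intro h
  obtain ⟨m, ρ, hρ, rfl⟩ := hχ
  rw [Representation.char_one] at h1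
  have h5 : Module.finrank ℂ (Fin m → ℂ) = 5 := by exact_mod_cast h1
  let φ : A6 →* Module.End ℂ (Fin m → ℂ) := (ρ : G →* _).comp (H.subtype.comp e.symm.toMonoidHom)
  have h2 : φ a = 1 := by
    have := (Characters.Values.character_eq_finrank_iff ρ (e.symm a : G)).1 (by rw [h, h5]; norm_num)
    exact this
  have hs : IsSimpleGroup A6 := alternatingGroup.isSimpleGroup (by
    rw [Nat.card_eq_fintype_card, Fintype.card_fin]; norm_num)
  let N : Subgroup A6 :=
    { carrier := {x | φ x = 1}
      one_mem' := map_one φ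
      mul_mem' := fun {x y} hx hy => by
        change φ (x * y) = 1
        rw [map_mul, show φ x = 1 from hx, show φ y = 1 from hy, one_mul]
      inv_mem' := fun {x} hx => by
        change φ x⁻¹ = 1
        have h3 : φ x⁻¹ * φ x = 1 := by rw [← map_mul, inv_mul_cancel, map_one]
        rwa [show φ x = 1 from hx, mul_one] at h3 }
  have hN : N.Normal := ⟨fun x hx g => by
    change φ (g * x * g⁻¹) = 1
    rw [map_mul, map_mul, show φ x = 1 from hx, mul_one, ← map_mul, mul_inv_cancel, map_one]⟩
  have hNt : N = ⊤ := by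
    rcases hs.eq_bot_or_eq_top_of_normal N hN with h3 | h3
    · exfalso
      apply ha
      have h4 : a ∈ N := h2
      rw [h3] at h4
      exact Subgroup.mem_bot.1 h4
    · exact h3
  have := hρ
  have h6 := Characters.DegreeBounds.finrank_dvd_index_of_scalar ρ H (fun z hz => ⟨1, by
    have h7 : e ⟨z, hz⟩ ∈ N := by rw [hNt]; trivial
    have h8 : φ (e ⟨z, hz⟩) = 1 := h7
    have h9 : φ (e ⟨z, hz⟩) = ρ z := by
      change ρ ((e.symm (e ⟨z, hz⟩) : H) : G) = ρ z
      rw [MulEquiv.symm_apply_apply]
    rw [← h9, h8, one_smul]⟩)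
  rw [h5, hi] at h6
  revert h6; decide

/-- conjugation action transported along an isomorphism -/
noncomputable def act {n : ℕ} {G : Type u} [Group G] (H : Subgroup G) [H.Normal] (e : H ≃* alternatingGroup (Fin n)) :
    G →* MulAut (alternatingGroup (Fin n)) :=
  (MulAut.congr e).toMonoidHom.comp MulAut.conjNormal

theorem act_apply {n : ℕ} {G : Type u} [Group G] (H : Subgroup G) [H.Normal] (e : H ≃* alternatingGroup (Fin n))
    (g : G) (a : alternatingGroup (Fin n)) : act H e g a = e (MulAut.conjNormal g (e.symm a)) := rfl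

theorem act_injective {n : ℕ} {G : Type u} [Group G] (H : Subgroup G) [H.Normal] (e : H ≃* alternatingGroup (Fin n))
    (hC : ∀ c : G, (∀ h ∈ H, h * c = c * h) → c = 1) : Function.Injective (act H e) := by
  rw [injective_iff_map_eq_one]
  intro g hg
  apply hC
  intro h hh
  have h1 := DFunLike.congr_fun hg (e ⟨h, hh⟩)
  rw [act_apply, MulEquiv.symm_apply_apply, MulAut.one_apply] at h1
  have h2 := congrArg Subtype.val (e.injective h1)
  rw [MulAut.conjNormal_apply] at h2
  change g * h * g⁻¹ = h at h2
  exact (mul_inv_eq_iff_eq_mul.1 h2).symm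

theorem final_iso {n : ℕ} (h5 : 5 ≤ n) {G : Type u} [Group G] [Finite G] (e : ↥(commutator G) ≃* alternatingGroup (Fin n))
    (hi : (commutator G).index = 2) (f : Cfsg.IrrCharacter G ≃ Cfsg.IrrCharacter (Equiv.Perm (Fin n)))
    (hf : ∀ χ : Cfsg.IrrCharacter G, Cfsg.charDegree ((f χ) : Equiv.Perm (Fin n) → ℂ) = Cfsg.charDegree (χ : G → ℂ)) :
    Nonempty (G ≃* Equiv.Perm (Fin n)) := by
  classical
  have hcard : Nat.card G = Nat.card (Equiv.Perm (Fin n)) := card_eq_of f hf
  have hC : ∀ c : G, (∀ h ∈ commutator G, h * c = c * h) → c = 1 := by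
    intro c hc
    by_contra hc1
    have hcH : c ∉ commutator G := by
      intro hcH
      apply hc1
      have h1 : e ⟨c, hcH⟩ ∈ Subgroup.center (alternatingGroup (Fin n)) := by
        rw [Subgroup.mem_center_iff]
        intro g
        obtain ⟨h, rfl⟩ := e.surjective g
        rw [← map_mul, ← map_mul]
        congr 1
        exact Subtype.ext (hc h h.2)
      rw [alternatingGroup.center_eq_bot (by
        rw [Nat.card_eq_fintype_card, Fintype.card_fin]; omega), Subgroup.mem_bot] at h1
      have h2 := congrArg Subtype.val (e.injective (h1.trans (map_one e).symm))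
      exact h2
    have h1 := cp_le_of_central (commutator G) hcH hc
    have h2 := cp_congr e
    have h3 := cp_alt (n := n) (by omega)
    have h4 := cp_eq_of f hf
    omega
  have hinj := act_injective (commutator G) e hC
  by_cases h6 : n = 6
  · subst h6
    obtain ⟨χ, hχ, hχ1⟩ := exists_deg (by norm_num) f hf
    have hχ1 : χ 1 = 5 := by rw [hχ1]; norm_num
    let θ : A6 → ℂ := fun a => χ (e.symm a)
    have hθ : IsCharacter A6 θ :=
      isCharacter_comp ((commutator G).subtype.comp e.symm.toMonoidHom) (isIrr_isCharacter hχ)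
    have hNE : ∀ g : G, act (commutator G) e g ∈ NE := by
      intro g
      by_contra hg
      have hinv : ∀ (g : G) (a : A6), θ (act (commutator G) e g a) = θ a := by
        intro g a
        simp only [θ]
        rw [act_apply, MulEquiv.symm_apply_apply, MulAut.conjNormal_apply]
        exact isIrr_isClassFunction hχ _ _
      have hcl : ∀ a b : A6, IsConj a b → θ a = θ b := by
        intro a b h
        exact classFunction_apply_eq (isCharacter_isClassFunction hθ) h
      refine six_char hθ ?_ (fun a ha => ker_case (commutator G) e hi hχ hχ1 a ha) (t := θ u3) ?_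
      · simp only [θ]
        rw [map_one]
        exact hχ1
      · intro x hx
        rcases three_or hx with h | h
        · exact hcl _ _ (alternatingGroup.isThreeCycle_isConj card6 h u3_three)
        · rw [← hinv g u3]
          obtain ⟨y, hy⟩ := exists_conj_33 h (type_of_not_mem hg u3_three)
          exact hcl _ _ (isConj_iff.2 ⟨y, hy⟩)
    let ι : Perm (Fin 6) →* MulAut A6 := MulAut.conjNormal
    have hι : Function.Injective ι := by
      intro s t h
      apply Cfsg.Agent.StandardComponent.AltAut.conj_unique (m := 4) (by norm_num)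
      intro x
      have h2 := congrArg Subtype.val (DFunLike.congr_fun h x)
      simp only [ι] at h2
      rwa [MulAut.conjNormal_apply, MulAut.conjNormal_apply] at h2
    have hmem : ∀ g : G, act (commutator G) e g ∈ ι.range := by
      intro g
      obtain ⟨σ, hσ⟩ := exists_perm (hNE g)
      refine ⟨σ, ?_⟩
      ext1 x
      apply Subtype.ext
      simp only [ι]
      rw [MulAut.conjNormal_apply, hσ]
    have hb : Function.Bijective ((act (commutator G) e).codRestrict ι.range hmem) := by
      have hfin : Finite ι.range := Finite.of_equiv _ (MonoidHom.ofInjective hι).toEquiv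
      rw [Nat.bijective_iff_injective_and_card]
      constructor
      · intro a b h
        exact hinj (congrArg Subtype.val h)
      · rw [hcard]
        exact Nat.card_congr (MonoidHom.ofInjective hι).toEquiv
    exact ⟨(MulEquiv.ofBijective _ hb).trans (MonoidHom.ofInjective hι).symm⟩
  · have hb := S2119.result n (by omega) h6
    let ψ := MulEquiv.ofBijective _ hb
    have hfin : Finite (MulAut (alternatingGroup (Fin n))) := Finite.of_equiv _ ψ.toEquiv
    have hb2 : Function.Bijective (act (commutator G) e) := by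
      rw [Nat.bijective_iff_injective_and_card]
      exact ⟨hinj, by rw [hcard]; exact Nat.card_congr ψ.toEquiv⟩
    exact ⟨(MulEquiv.ofBijective _ hb2).trans ψ.symm⟩

theorem iso_of_core {n : ℕ} {G : Type u} [Group G] [Finite G] (K : Subgroup G) (hK : K.index = n)
    (hcore : K.normalCore = ⊥) (hcard : Nat.card G = Nat.card (Equiv.Perm (Fin n))) :
    Nonempty (G ≃* Equiv.Perm (Fin n)) := by
  classical
  have h1 : Nat.card (G ⧸ K) = Nat.card (Fin n) := by
    rw [Nat.card_eq_fintype_card (α := Fin n), Fintype.card_fin, ← hK]; rfl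
  let eq : G ⧸ K ≃ Fin n := (Finite.card_eq.1 h1).some
  let φ : G →* Equiv.Perm (Fin n) := eq.permCongrHom.toMonoidHom.comp (MulAction.toPermHom G (G ⧸ K))
  have hinj : Function.Injective φ := by
    apply eq.permCongrHom.injective.comp
    rw [← MonoidHom.ker_eq_bot_iff, ← Subgroup.normalCore_eq_ker, hcore]
  exact ⟨MulEquiv.ofBijective φ ((Nat.bijective_iff_injective_and_card φ).2 ⟨hinj, hcard⟩)⟩

theorem index_commutator_eq {G : Type u} [Group G] [Finite G] {K : Type v} [Group K] [Finite K]
    (f : IrrCharacter G ≃ IrrCharacter K)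
    (hf : ∀ χ : IrrCharacter G, charDegree ((f χ) : K → ℂ) = charDegree (χ : G → ℂ)) :
    (commutator G).index = (commutator K).index := by
  rw [← Characters.Linear.card_hom_eq_index_commutator, ← Characters.Linear.card_hom_eq_index_commutator,
    Nat.card_congr (Characters.Linear.linearEquiv G), Nat.card_congr (Characters.Linear.linearEquiv K)]
  refine Nat.card_congr (f.subtypeEquiv fun χ => ?_)
  rw [Blocks.Basic.irr_one_eq_charDegree (f χ).2, Blocks.Basic.irr_one_eq_charDegree χ.2, hf]

/-- the number of linear characters of a symmetric group is prime to three -/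
theorem not_three_dvd_index (n : ℕ) : ¬ 3 ∣ (commutator (Equiv.Perm (Fin n))).index := by
  intro h
  rw [← Characters.Linear.card_hom_eq_index_commutator] at h
  have h3 : Fact (Nat.Prime 3) := ⟨Nat.prime_three⟩
  have hfin : Finite (Equiv.Perm (Fin n) →* ℂˣ) := by
    apply Nat.finite_of_card_ne_zero
    rw [Characters.Linear.card_hom_eq_index_commutator]
    exact Subgroup.FiniteIndex.index_ne_zero
  obtain ⟨f, hf⟩ := exists_prime_orderOf_dvd_card' 3 h
  have h2 : ∀ σ : Equiv.Perm (Fin n), f σ ^ 2 = 1 := by
    intro σ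
    induction σ using Equiv.Perm.swap_induction_on with
    | one => simp
    | swap_mul σ x y _ ih =>
      rw [map_mul, mul_pow, ih, mul_one, ← map_pow, pow_two, Equiv.swap_mul_self, map_one]
  have h4 : f ^ 2 = 1 := by
    ext1 σ
    exact h2 σ
  have h5 := orderOf_dvd_of_pow_eq_one h4
  rw [hf] at h5
  revert h5; decide

theorem ito {G : Type u} [Group G] [Finite G] {χ : G → ℂ} (hχ : IsIrrCharacter G χ) {d : ℕ} (hd : χ 1 = d)
    (H : Subgroup G) [H.Normal] (hH : ∀ a ∈ H, ∀ b ∈ H, a * b = b * a) : d ∣ H.index := by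
  obtain ⟨m, ρ, hρ, rfl⟩ := hχ
  have h1 := Characters.Ito.finrank_dvd_index ρ H hH
  rw [Representation.char_one] at hd
  have h5 : Module.finrank ℂ (Fin m → ℂ) = d := by exact_mod_cast hd
  rwa [h5] at h1

theorem le_four {n : ℕ} (h4 : n ≤ 4) {G : Type u} [Group G] [Finite G]
    (f : Cfsg.IrrCharacter G ≃ Cfsg.IrrCharacter (Equiv.Perm (Fin n)))
    (hf : ∀ χ : Cfsg.IrrCharacter G, Cfsg.charDegree ((f χ) : Equiv.Perm (Fin n) → ℂ) = Cfsg.charDegree (χ : G → ℂ)) :
    Nonempty (G ≃* Equiv.Perm (Fin n)) := by
  classical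
  have hcard := card_eq_of f hf
  have hcard' : Nat.card (Equiv.Perm (Fin n)) = n.factorial := by
    rw [Nat.card_perm, Nat.card_eq_fintype_card, Fintype.card_fin]
  rcases (by omega : n ≤ 1 ∨ n = 2 ∨ n = 3 ∨ n = 4) with h | h | h | h
  · have h1 : n.factorial = 1 := by
      rcases (by omega : n = 0 ∨ n = 1) with rfl | rfl <;> rfl
    rw [h1] at hcard'
    have := (Nat.card_eq_one_iff_unique.1 (hcard.trans hcard')).1
    have := (Nat.card_eq_one_iff_unique.1 hcard').1
    have : Unique G := ⟨⟨1⟩, fun a => Subsingleton.elim _ _⟩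
    have : Unique (Perm (Fin n)) := ⟨⟨1⟩, fun a => Subsingleton.elim _ _⟩
    exact ⟨MulEquiv.ofUnique⟩
  · subst h
    have : Fact (Nat.Prime 2) := ⟨Nat.prime_two⟩
    exact ⟨mulEquivOfPrimeCardEq (p := 2) (by rw [hcard, hcard']; rfl) (by rw [hcard']; rfl)⟩
  · subst h
    have hc6 : Nat.card G = 6 := by rw [hcard, hcard']; rfl
    have : Fact (Nat.Prime 2) := ⟨Nat.prime_two⟩
    obtain ⟨χ, hχ, hχ1⟩ := exists_deg (by norm_num) f hf
    obtain ⟨t, ht⟩ := exists_prime_orderOf_dvd_card' (G := G) 2 (by rw [hc6]; decide)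
    have hK2 : Nat.card (Subgroup.zpowers t) = 2 := by rw [Nat.card_zpowers, ht]
    have hidx : (Subgroup.zpowers t).index = 3 := by
      have := (Subgroup.zpowers t).card_mul_index
      rw [hK2, hc6] at this
      omega
    refine iso_of_core _ hidx ?_ hcard
    by_contra hne
    have h1 : Nat.card (Subgroup.zpowers t).normalCore ∣ 2 := by
      rw [← hK2]; exact Subgroup.card_dvd_of_le (Subgroup.normalCore_le _)
    have h2 : Nat.card (Subgroup.zpowers t).normalCore ≠ 1 := fun h => hne (Subgroup.card_eq_one.1 h)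
    have h3 : Nat.card (Subgroup.zpowers t).normalCore = 2 := ((Nat.dvd_prime Nat.prime_two).1 h1).resolve_left h2
    have h4 : (Subgroup.zpowers t).normalCore = Subgroup.zpowers t :=
      Subgroup.eq_of_le_of_card_ge (Subgroup.normalCore_le _) (by rw [h3, hK2])
    have hn : (Subgroup.zpowers t).Normal := by rw [← h4]; infer_instance
    have h5 := ito hχ hχ1 (Subgroup.zpowers t) (fun a ha b hb => by
      obtain ⟨i, rfl⟩ := ha
      obtain ⟨j, rfl⟩ := hb
      exact (Commute.refl t).zpow_zpow i j)
    rw [hidx] at h5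
    revert h5; decide
  · subst h
    have hc : Nat.card G = 24 := by rw [hcard, hcard']; rfl
    have : Fact (Nat.Prime 3) := ⟨Nat.prime_three⟩
    have : Fact (Nat.Prime 2) := ⟨Nat.prime_two⟩
    obtain ⟨χ, hχ, hχ1⟩ := exists_deg (by norm_num) f hf
    obtain ⟨P⟩ : Nonempty (Sylow 3 G) := inferInstance
    have hP : Nat.card P = 3 := by
      have h1 := P.card_eq_multiplicity
      rw [hc] at h1
      rw [h1]
      have : Nat.factorization 24 3 = 1 := by
        rw [show (24 : ℕ) = 3 * 8 from rfl, Nat.factorization_mul (by norm_num) (by norm_num)]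
        simp [Nat.Prime.factorization_self Nat.prime_three, Nat.factorization_eq_zero_of_not_dvd]
      rw [this]; rfl
    have hPc : ∀ a ∈ (P : Subgroup G), ∀ b ∈ (P : Subgroup G), a * b = b * a := by
      have hcyc : IsCyclic P := isCyclic_of_prime_card hP
      intro a ha b hb
      have := (IsCyclic.isMulCommutative (α := P)).is_comm.comm ⟨a, ha⟩ ⟨b, hb⟩
      exact congrArg Subtype.val this
    have hPn : ¬ (P : Subgroup G).Normal := by
      intro hn
      have h5 := ito hχ hχ1 (P : Subgroup G) hPc
      have h6 := (P : Subgroup G).card_mul_index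
      rw [hc] at h6
      have h7 : Nat.card (P : Subgroup G) = 3 := hP
      rw [h7] at h6
      have h8 : (P : Subgroup G).index = 8 := by omega
      rw [h8] at h5
      revert h5; decide
    set K := Subgroup.normalizer ((P : Subgroup G) : Set G) with hK
    have hidx : K.index = 4 := by
      have h1 : Nat.card (Sylow 3 G) = K.index := P.card_eq_index_normalizer
      have h2 := P.card_dvd_index
      have h3 : (P : Subgroup G).index = 8 := by
        have h6 := (P : Subgroup G).card_mul_index
        rw [hc] at h6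
        have h7 : Nat.card (P : Subgroup G) = 3 := hP
        rw [h7] at h6
        omega
      have h4 := card_sylow_modEq_one 3 G
      rw [h1] at h2 h4
      rw [h3] at h2
      have h5 : K.index ≤ 8 := Nat.le_of_dvd (by norm_num) h2
      have h6 : K.index ≠ 1 := by
        intro h
        rw [Subgroup.index_eq_one] at h
        exact hPn (Subgroup.normalizer_eq_top_iff.1 h)
      have h7 : 0 < K.index := Nat.pos_of_ne_zero Subgroup.FiniteIndex.index_ne_zero
      generalize K.index = k at *
      interval_cases k <;> simp_all [Nat.ModEq] <;> omega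
    have hK6 : Nat.card K = 6 := by
      have := K.card_mul_index
      rw [hidx, hc] at this
      omega
    refine iso_of_core K hidx ?_ hcard
    set N := K.normalCore with hN
    have hNK : N ≤ K := Subgroup.normalCore_le _
    have hN6 : Nat.card N ∣ 6 := by rw [← hK6]; exact Subgroup.card_dvd_of_le hNK
    have hN3 : ¬ 3 ∣ Nat.card N := by
      intro h
      obtain ⟨x, hx⟩ := exists_prime_orderOf_dvd_card' (G := N) 3 h
      have hx' : orderOf (x : G) = 3 := by rw [Subgroup.orderOf_coe, hx]
      have hZ : Nat.card (Subgroup.zpowers (x : G)) = 3 := by rw [Nat.card_zpowers, hx']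
      have hZP : Subgroup.zpowers (x : G) = P := by
        have hpg : IsPGroup 3 (Subgroup.zpowers (x : G)) := IsPGroup.of_card (n := 1) (by rw [hZ]; rfl)
        have h1 : Subgroup.zpowers (x : G) ⊓ K = Subgroup.zpowers (x : G) ⊓ (P : Subgroup G) :=
          hpg.inf_normalizer_sylow P
        have h2 : Subgroup.zpowers (x : G) ≤ K := by
          rw [Subgroup.zpowers_le]; exact hNK x.2
        rw [inf_eq_left.2 h2] at h1
        have h3 : Subgroup.zpowers (x : G) ≤ P := by rw [h1]; exact inf_le_right
        exact Subgroup.eq_of_le_of_card_ge h3 (by rw [hZ]; exact hP.le)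
      have hPN : (P : Subgroup G) ≤ N := by
        rw [← hZP, Subgroup.zpowers_le]; exact x.2
      apply hPn
      refine ⟨fun p hp g => ?_⟩
      have h1 : g * p * g⁻¹ ∈ N := (inferInstance : N.Normal).conj_mem p (hPN hp) g
      have hpg : IsPGroup 3 (Subgroup.zpowers (g * p * g⁻¹)) := by
        have h2 : orderOf (g * p * g⁻¹) = orderOf p := by
          rw [← MulAut.conj_apply, MulEquiv.orderOf_eq]
        have h3 : orderOf p ∣ 3 := by
          have := orderOf_dvd_natCard (⟨p, hp⟩ : (P : Subgroup G))
          rw [Subgroup.orderOf_mk] at this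
          have h7 : Nat.card (P : Subgroup G) = 3 := hP
          rwa [h7] at this
        rcases (Nat.dvd_prime Nat.prime_three).1 h3 with h4 | h4
        · exact IsPGroup.of_card (n := 0) (by rw [Nat.card_zpowers, h2, h4]; rfl)
        · exact IsPGroup.of_card (n := 1) (by rw [Nat.card_zpowers, h2, h4]; rfl)
      have h2 : Subgroup.zpowers (g * p * g⁻¹) ⊓ K = Subgroup.zpowers (g * p * g⁻¹) ⊓ (P : Subgroup G) :=
        hpg.inf_normalizer_sylow P
      have h3 : Subgroup.zpowers (g * p * g⁻¹) ≤ K := by
        rw [Subgroup.zpowers_le]; exact hNK h1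
      rw [inf_eq_left.2 h3] at h2
      have h4 : Subgroup.zpowers (g * p * g⁻¹) ≤ P := by rw [h2]; exact inf_le_right
      exact h4 (Subgroup.mem_zpowers _)
    by_contra hNe
    have hN1 : Nat.card N ≠ 1 := fun h => hNe (Subgroup.card_eq_one.1 h)
    have hN2 : Nat.card N = 2 := by
      have h5 : Nat.card N ≤ 6 := Nat.le_of_dvd (by norm_num) hN6
      have h7 : 0 < Nat.card N := Nat.card_pos
      generalize Nat.card N = k at *
      interval_cases k <;> simp_all
    -- the normal subgroup of order two is central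
    have hNc : ∀ z ∈ N, ∀ g : G, g * z = z * g := by
      intro z hz g
      by_cases hz1 : z = 1
      · rw [hz1]; simp
      have h1 : g * z * g⁻¹ ∈ N := (inferInstance : N.Normal).conj_mem z hz g
      have h2 : g * z * g⁻¹ ≠ 1 := by
        intro h; apply hz1
        have := conj_eq_one_iff.1 h
        exact this
      have h3 : ∀ a b : N, a ≠ 1 → b ≠ 1 → a = b := by
        intro a b ha hb
        by_contra hab
        have : Fintype N := Fintype.ofFinite N
        have h4 : ({1, a, b} : Finset N).card = 3 := Finset.card_eq_three.2 ⟨1, a, b, ha.symm, hb.symm, hab, rfl⟩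
        have h5 := Finset.card_le_univ ({1, a, b} : Finset N)
        rw [h4, ← Nat.card_eq_fintype_card, hN2] at h5
        omega
      have h4 := h3 ⟨_, h1⟩ ⟨z, hz⟩ (fun h => h2 (congrArg Subtype.val h)) (fun h => hz1 (congrArg Subtype.val h))
      have h5 : g * z * g⁻¹ = z := congrArg Subtype.val h4
      rwa [mul_inv_eq_iff_eq_mul] at h5
    have hKle : K ≤ Subgroup.centralizer ((P : Subgroup G) : Set G) := by
      have h1 : (P : Subgroup G) ⊔ N = K := by
        have h2 : (P : Subgroup G) ⊔ N ≤ K := sup_le Subgroup.le_normalizer hNK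
        apply Subgroup.eq_of_le_of_card_ge h2
        rw [hK6]
        have h3 : 3 ∣ Nat.card ((P : Subgroup G) ⊔ N : Subgroup G) := by
          have h7 : Nat.card (P : Subgroup G) = 3 := hP
          have h8 := Subgroup.card_dvd_of_le (le_sup_left : (P : Subgroup G) ≤ (P : Subgroup G) ⊔ N)
          rwa [h7] at h8
        have h4 : 2 ∣ Nat.card ((P : Subgroup G) ⊔ N : Subgroup G) := by
          rw [← hN2]; exact Subgroup.card_dvd_of_le le_sup_right
        have h5 : 0 < Nat.card ((P : Subgroup G) ⊔ N : Subgroup G) := Nat.card_pos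
        omega
      rw [← h1]
      apply sup_le
      · intro a ha b hb
        exact (hPc a ha b hb).symm
      · intro z hz b _
        exact hNc z hz b
    have hcompl := MonoidHom.ker_transferSylow_isComplement' P hKle
    have h3 : (MonoidHom.transferSylow P hKle).ker.index = 3 := by
      rw [hcompl.symm.index_eq_card]; exact hP
    have h4 : commutator G ≤ (MonoidHom.transferSylow P hKle).ker := by
      rw [commutator_def, Subgroup.commutator_le]
      intro a _ b _
      rw [MonoidHom.mem_ker, map_commutatorElement, commutatorElement_eq_one_iff_mul_comm]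
      exact Subtype.ext (hPc _ (SetLike.coe_mem _) _ (SetLike.coe_mem _))
    have h5 := Subgroup.index_dvd_of_le h4
    rw [h3, index_commutator_eq f hf] at h5
    exact not_three_dvd_index 4 h5

end Cfsg.Agent.H621.SymDeg

private theorem dce_75659b2042db : _root_.True := by
  try have : _root_.True := by simp only [_root_.Cfsg.Agent.H621.SymDeg.act.congr_simp]
  exact _root_.True.intro
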